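import Cfsg.Agent.Lib.Gag.Red1
import Cfsg.Agent.S2602
import Cfsg.Agent.Lib.ClAut.Induced
import Cfsg.Agent.Lib.Classical.SLBasic
import Cfsg.Agent.Lib.SL2.Basic
import Cfsg.Agent.Lib.Core.Basic

/-!
# Gagola's theorem: irreducibility; outer automorphisms (plans/GAG.md, package IRR)
-/

set_option autoImplicit false
set_option linter.unusedSectionVars false
set_option linter.unusedVariables false

namespace CfsgLib.Gag
open Cfsg Subgroup

universe u
variable {p : ℕ} [hp : Fact p.Prime] {H : Type u} [Group H] [Finite H] {V : Type*} [AddCommGroup V]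
  [Module (ZMod p) V] [Finite V] {ρ : H →* Module.End (ZMod p) V}

theorem irr_finite_end : Finite (Module.End (ZMod p) V) :=
  Finite.of_injective (fun f : Module.End (ZMod p) V => (f : V → V)) DFunLike.coe_injective

/-- The subring generated by the image of a subgroup. -/
def irrA (ρ : H →* Module.End (ZMod p) V) (S : Subgroup H) : Subring (Module.End (ZMod p) V) :=
  Subring.closure (ρ '' (S : Set H))

theorem irrA_mem (S : Subgroup H) {s : H} (hs : s ∈ S) : ρ s ∈ irrA ρ S :=
  Subring.subset_closure ⟨s, hs, rfl⟩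

theorem irrA_conj (S : Subgroup H) [hS : S.Normal] (g : H) {a : Module.End (ZMod p) V}
    (ha : a ∈ irrA ρ S) : ρ g * a * ρ g⁻¹ ∈ irrA ρ S := by
  induction ha using Subring.closure_induction with
  | mem x hx =>
    obtain ⟨s, hs, rfl⟩ := hx
    rw [← map_mul, ← map_mul]
    exact irrA_mem S (hS.conj_mem s hs g)
  | zero => simp
  | one => rw [mul_one, ← map_mul, mul_inv_cancel, map_one]; exact one_mem _
  | add x y _ _ hx hy => rw [mul_add, add_mul]; exact add_mem hx hy
  | neg x _ hx => rw [mul_neg, neg_mul]; exact neg_mem hx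
  | mul x y _ _ hx hy =>
    have : ρ g * (x * y) * ρ g⁻¹ = ρ g * x * ρ g⁻¹ * (ρ g * y * ρ g⁻¹) := by
      have e : ρ g⁻¹ * ρ g = 1 := by rw [← map_mul, inv_mul_cancel, map_one]
      calc _ = ρ g * x * (ρ g⁻¹ * ρ g) * y * ρ g⁻¹ := by rw [e]; noncomm_ring
        _ = _ := by noncomm_ring
    rw [this]
    exact mul_mem hx hy

/-- The set `A v`. -/
def irrO (ρ : H →* Module.End (ZMod p) V) (S : Subgroup H) (v : V) : Set V :=
  {w | ∃ a ∈ irrA ρ S, a v = w}

theorem irrO_card_le (S : Subgroup H) [S.Normal] (g : H) (v : V) :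
    (irrO ρ S v).ncard ≤ (irrO ρ S (ρ g v)).ncard := by
  refine Set.ncard_le_ncard_of_injOn (ρ g) ?_ ?_ (Set.toFinite _)
  · rintro _ ⟨a, ha, rfl⟩
    refine ⟨_, irrA_conj S g ha, ?_⟩
    rw [Module.End.mul_apply, Module.End.mul_apply, ← Module.End.mul_apply (ρ g⁻¹), ← map_mul,
      inv_mul_cancel, map_one, Module.End.one_apply]
  · intro a _ b _ e
    have := congrArg (ρ g⁻¹) e
    simpa only [← Module.End.mul_apply, ← map_mul, inv_mul_cancel, map_one,
      Module.End.one_apply] using this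

theorem Tr.irr_min (h : Tr p ρ) (S : Subgroup H) [S.Normal] {v : V} {a : Module.End (ZMod p) V}
    (ha : a ∈ irrA ρ S) (hv : a v ≠ 0) : ∃ b ∈ irrA ρ S, b (a v) = v := by
  have hv0 : v ≠ 0 := by rintro rfl; exact hv (map_zero _)
  obtain ⟨g, hg⟩ := h.trans v (a v) hv0 hv
  have h1 := irrO_card_le (ρ := ρ) S g v
  rw [hg] at h1
  have h2 : irrO ρ S (a v) ⊆ irrO ρ S v := by
    rintro _ ⟨b, hb, rfl⟩
    exact ⟨b * a, mul_mem hb ha, rfl⟩
  have h3 := Set.eq_of_subset_of_ncard_le h2 h1 (Set.toFinite _)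
  have h4 : v ∈ irrO ρ S v := ⟨1, one_mem _, rfl⟩
  rwa [← h3] at h4

theorem Tr.irr_all (h : Tr p ρ) (S : Subgroup H) [hSn : S.Normal] (hS : ¬ IsMulCommutative S)
    {v : V} (hv : v ≠ 0) (w : V) : ∃ a ∈ irrA ρ S, a v = w := by
  by_contra hw
  apply hS
  have k1 : ∀ c ∈ irrA ρ S, c v ≠ 0 → ∀ a ∈ irrA ρ S, (a (c v) = 0 ↔ a w = 0) := by
    intro c hc hc0 a ha
    constructor
    · intro e
      by_contra e'
      have h1 : a (c v + w) = a w := by rw [map_add, e, zero_add]
      obtain ⟨b, hb, h2⟩ := h.irr_min S (v := c v + w) ha (by rwa [h1])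
      rw [h1] at h2
      have h3 : (b * a - 1) w = c v := by
        rw [LinearMap.sub_apply, Module.End.mul_apply, h2, Module.End.one_apply, add_sub_cancel_right]
      obtain ⟨d, hd, h4⟩ := h.irr_min S (v := w) (sub_mem (mul_mem hb ha) (one_mem _))
        (by rwa [h3])
      rw [h3] at h4
      exact hw ⟨d * c, mul_mem hd hc, h4⟩
    · intro e
      by_contra e'
      have h1 : a (c v + w) = a (c v) := by rw [map_add, e, add_zero]
      obtain ⟨b, hb, h2⟩ := h.irr_min S (v := c v + w) ha (by rwa [h1])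
      rw [h1] at h2
      refine hw ⟨b * a * c - c, sub_mem (mul_mem (mul_mem hb ha) hc) hc, ?_⟩
      rw [LinearMap.sub_apply, Module.End.mul_apply, Module.End.mul_apply, h2, add_sub_cancel_left]
  have k2 : ∀ c ∈ irrA ρ S, c v ≠ 0 → ∀ a ∈ irrA ρ S, a (c v) = 0 → ∀ d ∈ irrA ρ S,
      a (d v) = 0 := by
    intro c hc hc0 a ha e d hd
    by_cases hd0 : d v = 0
    · rw [hd0, map_zero]
    · exact (k1 d hd hd0 a ha).2 ((k1 c hc hc0 a ha).1 e)
  have := irr_finite_end (p := p) (V := V)
  let W : Submodule (irrA ρ S) V := Submodule.span (irrA ρ S) {v}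
  have hW : ∀ x : W, ∃ d ∈ irrA ρ S, d v = x := fun x => by
    obtain ⟨d, hd⟩ := Submodule.mem_span_singleton.1 x.2
    exact ⟨d, d.2, hd⟩
  let res : irrA ρ S →+* AddMonoid.End W := Module.toAddMonoidEnd (irrA ρ S) W
  have hres : ∀ (a : irrA ρ S) (x : W), ((res a x : W) : V) = (a : Module.End (ZMod p) V) x :=
    fun a x => rfl
  let v' : W := ⟨v, Submodule.mem_span_singleton_self v⟩
  have : Finite res.range := Finite.of_surjective _ res.rangeRestrict_surjective
  have : Nontrivial res.range := ⟨⟨0, 1, fun e => hv (by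
    have := congrArg (fun f : res.range => (((f : AddMonoid.End W) v' : W) : V)) e
    exact this.symm)⟩⟩
  have : NoZeroDivisors res.range := ⟨by
    rintro ⟨_, a, rfl⟩ ⟨_, b, rfl⟩ e
    by_cases hb : res b = 0
    · exact Or.inr (Subtype.ext hb)
    · left
      obtain ⟨x, hx⟩ : ∃ x : W, res b x ≠ 0 := by
        by_contra hh
        push Not at hh
        exact hb (AddMonoidHom.ext hh)
      obtain ⟨d, hd, hdx⟩ := hW x
      have e1 : (((res a * res b : AddMonoid.End W) x : W) : V) = 0 :=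
        congrArg (fun f : res.range => (((f : AddMonoid.End W) x : W) : V)) e
      have e2 : (a : Module.End (ZMod p) V) (((b : Module.End (ZMod p) V) * d) v) = 0 := by
        rw [Module.End.mul_apply, hdx]; exact e1
      refine Subtype.ext (AddMonoidHom.ext fun y => Subtype.ext ?_)
      obtain ⟨d', hd', hdy⟩ := hW y
      change (a : Module.End (ZMod p) V) y = 0
      rw [← hdy]
      refine k2 _ (mul_mem b.2 hd) ?_ a a.2 e2 d' hd'
      rw [Module.End.mul_apply, hdx]
      exact fun e => hx (Subtype.ext e)⟩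
  have : IsDomain res.range := NoZeroDivisors.to_isDomain _
  have hF := Finite.isDomain_to_isField res.range
  have k3 : ∀ s ∈ S, ∀ t ∈ S, ρ s (ρ t v) = ρ t (ρ s v) := fun s hs t ht =>
    congrArg (fun f : res.range => (((f : AddMonoid.End W) v' : W) : V))
      (hF.mul_comm ⟨_, ⟨_, irrA_mem S hs⟩, rfl⟩ ⟨_, ⟨_, irrA_mem S ht⟩, rfl⟩)
  refine ⟨⟨fun s t => Subtype.ext (h.inj (LinearMap.ext fun x => ?_))⟩⟩
  by_cases hx : x = 0
  · rw [hx, map_zero, map_zero]
  · obtain ⟨g, rfl⟩ := h.trans v x hv hx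
    have e := congrArg (ρ g) (k3 _ (hSn.conj_mem s s.2 g⁻¹) _ (hSn.conj_mem t t.2 g⁻¹))
    simp only [← Module.End.mul_apply, ← map_mul] at e ⊢
    have e1 : g * (g⁻¹ * s * g⁻¹⁻¹ * (g⁻¹ * t * g⁻¹⁻¹)) = ((s * t : S) : H) * g := by
      push_cast; group
    have e2 : g * (g⁻¹ * t * g⁻¹⁻¹ * (g⁻¹ * s * g⁻¹⁻¹)) = ((t * s : S) : H) * g := by
      push_cast; group
    rwa [e1, e2] at e

theorem Tr.irr (h : Tr p ρ) (S : Subgroup H) [S.Normal] (hS : ¬ IsMulCommutative S) :
    ∃ k d : ℕ, 2 ≤ d ∧ Nat.card V = k ^ d ∧ IsCyclic (centralizer (S : Set H)) ∧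
      Nat.card (centralizer (S : Set H)) ∣ k - 1 := by
  have := irr_finite_end (p := p) (V := V)
  let K : Subring (Module.End (ZMod p) V) := Subring.centralizer (ρ '' (S : Set H))
  have hKA : ∀ f ∈ K, ∀ a ∈ irrA ρ S, a * f = f * a := fun f hf a ha => by
    have : irrA ρ S ≤ Subring.centralizer {f} := Subring.closure_le.2 fun x hx y hy => by
      rw [Set.mem_singleton_iff.1 hy]
      exact (hf x hx).symm
    exact (this ha f rfl).symm
  have hK0 : ∀ f ∈ K, ∀ v, v ≠ 0 → f v = 0 → f = 0 := fun f hf v hv e => LinearMap.ext fun w => by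
    obtain ⟨a, ha, rfl⟩ := h.irr_all S hS hv w
    rw [← Module.End.mul_apply, ← hKA f hf a ha, Module.End.mul_apply, e, map_zero,
      LinearMap.zero_apply]
  obtain ⟨v, hv⟩ := h.nt
  have : Nontrivial K := ⟨⟨0, 1, fun e => hv (by
    have := congrArg (fun f : K => (f : Module.End (ZMod p) V) v) e
    exact this.symm)⟩⟩
  have : NoZeroDivisors K := ⟨fun {a b} e => by
    by_cases hb : (b : Module.End (ZMod p) V) v = 0
    · exact Or.inr (Subtype.ext (hK0 b b.2 v hv hb))
    · exact Or.inl (Subtype.ext (hK0 a a.2 _ hb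
        (congrArg (fun f : K => (f : Module.End (ZMod p) V) v) e)))⟩
  have : IsDomain K := NoZeroDivisors.to_isDomain _
  have hF := Finite.isDomain_to_isField K
  let _ : Field K := hF.toField
  let f : centralizer (S : Set H) →* K :=
    { toFun := fun c => ⟨ρ c, by
        rintro _ ⟨s, hs, rfl⟩
        rw [← map_mul, ← map_mul, c.2 s hs]⟩
      map_one' := Subtype.ext (map_one ρ)
      map_mul' := fun a b => Subtype.ext (map_mul ρ _ _) }
  have hf : Function.Injective f := fun a b e => Subtype.ext (h.inj (congrArg Subtype.val e))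
  have hc : Nat.card V = Nat.card K ^ Module.finrank K V := Module.natCard_eq_pow_finrank
  refine ⟨Nat.card K, Module.finrank K V, ?_, hc, isCyclic_of_injective_ringHom f hf, ?_⟩
  · by_contra hd
    have hinj : Function.Injective fun g : K => (g : Module.End (ZMod p) V) v := fun a b e =>
      Subtype.ext (sub_eq_zero.1 (hK0 _ (sub_mem a.2 b.2) v hv (sub_eq_zero.2 e)))
    have hle : Nat.card V ≤ Nat.card K := by
      have : Module.finrank K V = 0 ∨ Module.finrank K V = 1 := by omega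
      rcases this with e | e
      · rw [hc, e, pow_zero]; exact Nat.card_pos
      · rw [hc, e, pow_one]
    have hsurj := (hinj.bijective_of_nat_card_le hle).2
    have k1 : ∀ s ∈ S, ρ s ∈ K := fun s hs => by
      obtain ⟨a, ha⟩ := hsurj (ρ s v)
      have : ρ s = a := LinearMap.ext fun w => by
        obtain ⟨b, rfl⟩ := hsurj w
        have e1 := congrArg (fun g : K => (g : Module.End (ZMod p) V) v) (hF.mul_comm a b)
        have e2 := congrArg (fun g : Module.End (ZMod p) V => g v) (b.2 (ρ s) ⟨s, hs, rfl⟩)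
        simp only [Module.End.mul_apply, Subring.coe_mul] at e1 e2 ha ⊢
        rw [e2, e1, ha]
      rw [this]; exact a.2
    refine hS ⟨⟨fun s t => Subtype.ext (h.inj ?_)⟩⟩
    rw [coe_mul, coe_mul, map_mul, map_mul]
    exact k1 t t.2 _ ⟨s, s.2, rfl⟩
  · rw [← Nat.card_units]
    exact card_dvd_of_injective f.toHomUnits fun a b e => hf (congrArg Units.val e)

theorem irr_aut_eq_one {X : Type*} [Group X] (hX : commutator X = ⊤) (α : MulAut X)
    (hα : ∀ x, α x * x⁻¹ ∈ center X) : α = 1 := by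
  have : commutator X ≤ α.toMonoidHom.eqLocus (MonoidHom.id X) := by
    rw [commutator_def, commutator_le]
    intro a _ b _
    obtain ⟨z, hz, ha⟩ : ∃ z ∈ center X, α a = z * a := ⟨_, hα a, by group⟩
    obtain ⟨w, hw, hb⟩ : ∃ z ∈ center X, α b = z * b := ⟨_, hα b, by group⟩
    change α (a * b * a⁻¹ * b⁻¹) = a * b * a⁻¹ * b⁻¹
    rw [map_mul, map_mul, map_mul, map_inv, map_inv, ha, hb]
    have hz' := mem_center_iff.1 hz
    have hw' := mem_center_iff.1 hw
    calc z * a * (w * b) * (z * a)⁻¹ * (w * b)⁻¹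
        = z * (a * (w * b) * a⁻¹) * z⁻¹ * (w * b)⁻¹ := by group
      _ = (a * w) * b * a⁻¹ * b⁻¹ * w⁻¹ := by rw [← hz']; group
      _ = w * (a * b * a⁻¹ * b⁻¹) * w⁻¹ := by rw [hw' a]; group
      _ = _ := by rw [← hw']; group
  ext x
  exact this (hX ▸ mem_top x)

theorem out_hom (S : Subgroup H) [S.Normal] {F : Type} [Field F] [Fintype F]
    (e : S ≃* Matrix.SpecialLinearGroup (Fin 2) F) (h4 : 4 ≤ Fintype.card F) :
    ∃ ψ : H →* Cfsg.Out (Matrix.ProjectiveSpecialLinearGroup (Fin 2) F),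
      ψ.ker = S ⊔ centralizer (S : Set H) := by
  let α : H →* MulAut (Matrix.SpecialLinearGroup (Fin 2) F) :=
    (MulAut.congr e).toMonoidHom.comp MulAut.conjNormal
  have hα : ∀ (g : H) (s : S), α g (e s) = e (MulAut.conjNormal g s) := fun g s => by
    simp [α]
  have hαs : ∀ s : S, α s = MulAut.conj (e s) := fun s => by
    ext1 x
    obtain ⟨t, rfl⟩ := e.surjective x
    rw [hα, MulAut.conj_apply, ← map_inv, ← map_mul, ← map_mul]
    rfl
  have hα1 : ∀ g : H, α g = 1 ↔ g ∈ centralizer (S : Set H) := fun g => by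
    constructor
    · intro h1 s hs
      have := hα g ⟨s, hs⟩
      rw [h1, MulAut.one_apply] at this
      have h2 : s = g * s * g⁻¹ := congrArg Subtype.val (e.injective this)
      exact eq_mul_inv_iff_mul_eq.1 h2
    · intro h1
      ext1 x
      obtain ⟨t, rfl⟩ := e.surjective x
      rw [hα, MulAut.one_apply]
      congr 1
      refine Subtype.ext ?_
      change g * t * g⁻¹ = t
      rw [← h1 t t.2, mul_inv_cancel_right]
  let β : H →* MulAut (Matrix.ProjectiveSpecialLinearGroup (Fin 2) F) :=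
    (CfsgLib.ClAut.qAut _).comp α
  have hβs : ∀ s : S, β s = MulAut.conj (QuotientGroup.mk (e s)) := fun s => by
    change CfsgLib.ClAut.qAut _ (α s) = _
    rw [hαs, CfsgLib.ClAut.qAut_conj]
  refine ⟨(QuotientGroup.mk' _).comp β, le_antisymm (fun g hg => ?_) (sup_le ?_ ?_)⟩
  · rw [MonoidHom.mem_ker, MonoidHom.comp_apply, QuotientGroup.mk'_apply,
      QuotientGroup.eq_one_iff] at hg
    obtain ⟨y, hy⟩ := hg
    obtain ⟨y, rfl⟩ := QuotientGroup.mk_surjective y
    obtain ⟨s, rfl⟩ := e.surjective y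
    rw [← hβs] at hy
    have h1 : β ((s : H)⁻¹ * g) = 1 := by rw [map_mul, map_inv, hy, inv_mul_cancel]
    have h2 : α ((s : H)⁻¹ * g) = 1 := by
      refine irr_aut_eq_one (CfsgLib.Classical.sl_fin_commutator_eq_top 2 le_rfl fun _ => h4) _
        fun x => ?_
      have h3 : (QuotientGroup.mk (α ((s : H)⁻¹ * g) x) :
          Matrix.ProjectiveSpecialLinearGroup (Fin 2) F) = QuotientGroup.mk x :=
        congrArg (fun γ : MulAut (Matrix.ProjectiveSpecialLinearGroup (Fin 2) F) =>
          γ (QuotientGroup.mk x)) h1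
      rw [← QuotientGroup.eq_one_iff, QuotientGroup.mk_mul, h3, ← QuotientGroup.mk_mul,
        mul_inv_cancel, QuotientGroup.mk_one]
    have h4 := mul_mem_sup s.2 ((hα1 _).1 h2)
    rwa [mul_inv_cancel_left] at h4
  · intro s hs
    rw [MonoidHom.mem_ker, MonoidHom.comp_apply, QuotientGroup.mk'_apply, QuotientGroup.eq_one_iff]
    exact ⟨_, (hβs ⟨s, hs⟩).symm⟩
  · intro g hg
    rw [MonoidHom.mem_ker, MonoidHom.comp_apply]
    have : β g = 1 := by
      change CfsgLib.ClAut.qAut _ (α g) = _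
      rw [(hα1 g).2 hg, map_one]
    rw [this, map_one]

theorem index_dvd_two (S : Subgroup H) [S.Normal] {F : Type} [Field F] [Fintype F]
    (e : S ≃* Matrix.SpecialLinearGroup (Fin 2) F) (h4 : 4 ≤ Fintype.card F)
    (hq : (Fintype.card F).Prime) : (S ⊔ centralizer (S : Set H)).index ∣ 2 := by
  obtain ⟨ψ, hψ⟩ := out_hom S e h4
  have : Fact (Fintype.card F).Prime := ⟨hq⟩
  obtain ⟨φ, -, -, hc⟩ := Cfsg.Agent.S2602.result (F := F) (p := Fintype.card F) (f := 1) le_rfl
    (pow_one _).symm (by rwa [pow_one])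
  have hk : φ.ker = ⊤ := by
    rw [eq_top_iff]
    exact fun x _ => Subsingleton.elim (α := Multiplicative (ZMod 1)) _ _
  rw [hk, card_top] at hc
  rw [← hψ, index_ker]
  exact (card_subgroup_dvd_card _).trans (hc ▸ Nat.gcd_dvd_left _ _)

/-- `|S C(S)| |Z(S)| = |S| |C(S)|`, with `|Z(S)| = 2` in odd characteristic. -/
theorem card_sup_cent (S : Subgroup H) [S.Normal] {F : Type} [Field F] [Fintype F]
    (e : S ≃* Matrix.SpecialLinearGroup (Fin 2) F) (ho : Odd (Fintype.card F)) :
    Nat.card (center S) = 2 ∧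
      Nat.card ↥(S ⊔ centralizer (S : Set H)) * 2 = Nat.card S * Nat.card (centralizer (S : Set H)) := by
  have h2 : (2 : F) ≠ 0 := fun e => by
    have h1 : ringChar F = 2 := by
      have : Fact (Nat.Prime 2) := ⟨Nat.prime_two⟩
      have := CharP.ringChar_of_prime_eq_zero (R := F) Nat.prime_two (by exact_mod_cast e)
      exact this
    have := FiniteField.even_card_of_char_two h1
    rw [Nat.odd_iff] at ho
    omega
  have hZ : Nat.card (center S) = 2 := by
    rw [← CfsgLib.SL2.card_center_odd h2]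
    exact Nat.card_congr (Subgroup.centerCongr e).toEquiv
  refine ⟨hZ, ?_⟩
  rw [← CfsgLib.Core.card_sup_mul_card_inf_of_normal, ← hZ]
  congr 1
  rw [← CfsgLib.Core.card_map_subtype]
  congr 2
  ext x
  constructor
  · rintro ⟨y, hy, rfl⟩
    exact ⟨y.2, fun s hs => congrArg Subtype.val (mem_center_iff.1 hy ⟨s, hs⟩)⟩
  · rintro ⟨h1, h3⟩
    exact ⟨⟨x, h1⟩, mem_center_iff.2 fun s => Subtype.ext (h3 s s.2), rfl⟩

end CfsgLib.Gag
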