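import Cfsg.Agent.Lib.Gag.Red1
import Cfsg.Agent.Lib.GW.Cor1
import Cfsg.Agent.S0483
import Cfsg.Agent.Lib.GW.Main
import Cfsg.Agent.Lib.Comp.FStar
import Cfsg.Agent.Lib.Core.MinNormal
import Cfsg.Agent.Lib.FrobCompl.Struct
import Cfsg.Agent.Lib.ZassFeit.Cyclic
import Cfsg.Agent.Lib.Fischer.Conj
import Cfsg.Agent.Lib.SmallSimple.NC

/-!
# Gagola's theorem: the normal quasisimple subgroup (plans/GAG.md, package RED2)
-/

set_option autoImplicit false
set_option linter.unusedSectionVars false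
set_option linter.unusedVariables false

namespace CfsgLib.Gag
open Cfsg Subgroup Red1

universe u
variable {p : ℕ} [hp : Fact p.Prime] {H : Type u} [Group H] [Finite H] {V : Type*} [AddCommGroup V]
  [Module (ZMod p) V] [Finite V] {ρ : H →* Module.End (ZMod p) V}

theorem Red2.exists_S (hns : ¬ Group.IsSolvable H) :
    ∃ S : Subgroup H, S.Normal ∧ ⁅S, S⁆ = S ∧ S ≠ ⊥ := by
  obtain ⟨K, ⟨n, rfl⟩, hn⟩ := (wellFounded_lt (α := Subgroup H)).has_min
    (Set.range (derivedSeries H)) ⟨_, 0, rfl⟩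
  exact ⟨_, inferInstance, ((derivedSeries H n).commutator_le_self.eq_or_lt).resolve_right
    (hn _ ⟨n + 1, rfl⟩), fun e => hns ⟨n, e⟩⟩

theorem Red2.perfect {S : Subgroup H} (hS : ⁅S, S⁆ = S) : commutator S = ⊤ :=
  map_injective S.subtype_injective (by
    rw [map_subtype_commutator, hS, ← MonoidHom.range_eq_map, range_subtype])

theorem Tr.cyc_r (h : Tr p ρ) {r : ℕ} [hr : Fact r.Prime] (h1 : r ≠ p) (h2 : r ≠ 2) {R : Subgroup H}
    (hR : IsPGroup r R) : IsCyclic R := by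
  obtain ⟨k, hk⟩ := hR.exists_card_eq
  exact (h.pqCond R fun e => h1 ((Nat.prime_dvd_prime_iff_eq hp.out hr.out).1
    (hp.out.dvd_of_dvd_pow (hk ▸ e))).symm).isCyclic_of_odd hR h2

/-- (Z) -/
theorem Tr.solv_bot (h : Tr p ρ) {S N : Subgroup H} (hS : ⁅S, S⁆ = S) [N.Normal] (hN : N ≤ S)
    [Group.IsSolvable N] (ho : p = 2 ∨ Odd (Nat.card N)) : N = ⊥ := by
  by_contra h0
  obtain ⟨r, M, hr, hM, h1, h2, ⟨-, h3⟩, -⟩ := Core.exists_elementaryAbelian_minimal_normal_le h0
  have := Fact.mk hr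
  have h4 : IsPGroup r M := fun g => ⟨1, Subtype.ext (by simpa using h3 g g.2)⟩
  have h5 : r ≠ p := by
    rintro rfl
    exact h1 (eq_bot_iff.2 (h.core_bot ▸ Core.le_pCore h4))
  obtain ⟨a, ha, h6⟩ := Core.exists_mem_orderOf_eq_of_isPGroup h4 h1
  have h7 : r ≠ 2 := ho.elim (fun e => e ▸ h5) fun e e' =>
    e.not_two_dvd_nat (e' ▸ h6 ▸ N.orderOf_dvd_natCard (h2 ha))
  have h8 := ZassFeit.commutator_le_centralizer_of_isCyclic (h.cyc_r h5 h7 h4)
    (le_normalizer_of_normal (K := S))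
  rw [hS] at h8
  refine FrobCompl.not_mem_center_of_perfect (Red2.perfect hS) (p := r) (fun P => ?_)
    (a := ⟨a, hN (h2 ha)⟩) ((orderOf_mk ..).trans h6)
    (mem_center_iff.2 fun g => Subtype.ext (h8 g.2 a ha).symm)
  exact (equivMapOfInjective _ _ S.subtype_injective).isCyclic.2
    (h.cyc_r h5 h7 (P.isPGroup'.map S.subtype))

theorem Tr.red2 (h : Tr p ρ) (h2 : p = 2) (hns : ¬ Group.IsSolvable H) :
    ∃ M : Subgroup H, M.Normal ∧ IsSimpleGroup M ∧ ¬ IsMulCommutative M := by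
  obtain ⟨S, hn, hS, h0⟩ := Red2.exists_S hns
  have := Comp.fit_normal (G := H)
  have := Comp.fit_solvable (G := H)
  have : Group.IsSolvable ↥(fittingSubgroup H ⊓ S) :=
    Group.isSolvable_of_isSolvable_injective (inclusion_injective inf_le_left)
  have hF : fittingSubgroup H ⊓ S = ⊥ := h.solv_bot hS inf_le_right (.inl h2)
  obtain ⟨K, hK, h1, -⟩ := (Comp.exists_comp_or_fit_not_le (Z := ⊥) hn.isSubnormal bot_le
    (mt le_bot_iff.1 h0)).resolve_right (not_not.2 hF.le)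
  have h3 : ∀ a ∈ K, a ∈ centralizer (K : Set H) → a = 1 := fun a ha hc =>
    mem_bot.1 (hF.le ⟨Comp.comp_inf_centralizer_le_fit hK ⟨ha, hc⟩, h1 ha⟩)
  refine ⟨K, Normal.of_conjugate_fixed fun g => ?_,
    Comp.isSimpleGroup_of_qs_of_center_eq_bot hK.2 (eq_bot_iff.2 fun a ha =>
      Subtype.ext (h3 a a.2 fun b hb => congrArg Subtype.val (mem_center_iff.1 ha ⟨b, hb⟩))),
    Comp.qs_not_isMulCommutative hK.2⟩
  by_contra h4
  have h5 := Comp.comp_le_centralizer_of_ne (Comp.comp_smul hK (MulAut.conj g)) hK h4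
  obtain ⟨r, hr, h6, h7⟩ : ∃ r, r.Prime ∧ r ∣ Nat.card K ∧ r ≠ 2 := by
    by_contra h6
    push Not at h6
    have := (IsPGroup.iff_card.2 ⟨_, Nat.eq_prime_pow_of_unique_prime_dvd Nat.card_pos.ne'
      fun hd hd' => h6 _ hd hd'⟩ : IsPGroup 2 K).isNilpotent
    exact Comp.qs_not_isSolvable hK.2 inferInstance
  obtain ⟨a, ha, h8⟩ := Core.exists_mem_orderOf_eq_of_dvd_card hr h6
  have h9 := h5 (smul_mem_pointwise_smul a (MulAut.conj g) K ha)
  have h10 : orderOf (MulAut.conj g • a) = r := ((MulAut.conj g).orderOf_eq a).trans h8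
  have h11 : MulAut.conj g • a * a * (MulAut.conj g • a)⁻¹ ∈ zpowers a := by
    rw [← h9 a ha, mul_inv_cancel_right]; exact mem_zpowers a
  have h12 := Core.card_sup_dvd_of_le_normalizer (zpowers_le.2 (TwoGrp.mem_normalizer_zpowers h11))
  rw [Nat.card_zpowers, Nat.card_zpowers, h8, h10] at h12
  have h13 := (Frob.pqCond_subgroup_iff.1 (h.pqCond _ fun e => h7 (((Nat.prime_dvd_prime_iff_eq
    hp.out hr).1 ((hp.out.dvd_mul.1 (e.trans h12)).elim id id)).symm.trans h2)) a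
    (mem_sup_right (mem_zpowers a)) _ (mem_sup_left (mem_zpowers _)) (h8 ▸ hr) (h10 ▸ hr) h11).2
    (h8.trans h10.symm)
  rw [h3 _ (zpowers_le.2 ha h13) h9, orderOf_one] at h10
  exact hr.ne_one h10.symm

theorem Tr.redOdd (h : Tr p ρ) (h2 : p ≠ 2) (hns : ¬ Group.IsSolvable H) :
    ∃ S : Subgroup H, S.Normal ∧
      ((∃ (F : Type) (_ : Field F) (_ : Fintype F), Odd (Fintype.card F) ∧ 3 < Fintype.card F ∧
        Nonempty (S ≃* Matrix.SpecialLinearGroup (Fin 2) F)) ∨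
      IsNonsplitDoubleCover S (alternatingGroup (Fin 7))) := by
  obtain ⟨S, hn, hS, h0⟩ := Red2.exists_S hns
  have := Core.pPrimeCore_characteristic 2 S
  have h1 : Odd (Nat.card ((pPrimeCore 2 S).map S.subtype)) := by
    rw [card_map_of_injective S.subtype_injective]; exact Core.odd_card_oddCore S
  have := GW.Cor.ft _ h1
  have h3 : pPrimeCore 2 S = ⊥ := (map_eq_bot_iff_of_injective _ S.subtype_injective).1
    (h.solv_bot hS (map_subtype_le _) (.inr h1))
  let e : S ⧸ pPrimeCore 2 S ≃* S :=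
    (QuotientGroup.quotientMulEquivOfEq h3).trans QuotientGroup.quotientBot
  obtain ⟨z, -, -, hz⟩ := h.inv h2
  refine ⟨S, hn, (GW.Cor.rank_one_of_perfect (GW.ih_all GW.Cor.ft) (Red2.perfect hS)
    (fun A _ hA => ?_) (Nat.not_odd_iff_even.1 fun ho => h0
      (Comp.eq_bot_of_perfect_of_solvable hS (GW.Cor.ft _ ho)))).imp
    (fun ⟨F, _, _, h4, h5, ⟨f⟩⟩ => ⟨F, _, _, h4, h5, ⟨e.symm.trans f⟩⟩) (Fischer.nonsplit_congr e)⟩
  refine (Nat.card_le_card_of_injective (fun a : A => (⟨a.1.1, hz _ ?_⟩ : ({1, z} : Set H)))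
    fun a b e => Subtype.ext (Subtype.ext (Subtype.mk.inj e))).trans ?_
  · rw [← sq]; exact congrArg Subtype.val (hA a a.2)
  · exact (Set.ncard_insert_le 1 {z}).trans (by simp)

theorem Red2.cube {σ : Equiv.Perm (Fin 7)} (h : σ ^ 9 = 1) : σ ^ 3 = 1 := by
  rw [← orderOf_dvd_iff_pow_eq_one, ← Equiv.Perm.lcm_cycleType, Multiset.lcm_dvd]
  intro n hn
  have h1 := (Equiv.Perm.dvd_of_mem_cycleType hn).trans (orderOf_dvd_of_pow_eq_one h)
  have h2 := (Equiv.Perm.le_card_support_of_mem_cycleType hn).trans (Finset.card_le_univ _)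
  rw [Fintype.card_fin] at h2
  interval_cases n <;> omega

theorem Tr.noA7 (h : Tr p ρ) (h2 : p ≠ 2) (S : Subgroup H) [S.Normal] :
    ¬ IsNonsplitDoubleCover S (alternatingGroup (Fin 7)) := by
  rintro ⟨h1, ⟨e⟩, -⟩
  have h3 : Nat.card S = 3 ^ 2 * 560 := by
    rw [card_eq_card_quotient_mul_card_subgroup (center S), h1, Nat.card_congr e.toEquiv,
      nat_card_alternatingGroup]
    simp [Nat.factorial]
  have := Fact.mk Nat.prime_three
  obtain ⟨P⟩ : Nonempty (Sylow 3 S) := inferInstance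
  have h4 := SmallSimple.card_sylow_eq P h3 (by norm_num)
  by_cases h5 : 3 = p
  swap
  · obtain ⟨g, hg⟩ := ((equivMapOfInjective _ _ S.subtype_injective).isCyclic.2
      (h.cyc_r h5 (by decide) (P.isPGroup'.map S.subtype))).exists_ofOrder_eq_natCard
    rw [h4, ← orderOf_coe] at hg
    have h6 : e (g.1 : S ⧸ center S) ^ 3 = 1 := Subtype.ext (Red2.cube (by
      rw [← coe_pow, ← map_pow, ← QuotientGroup.mk_pow, show 9 = orderOf g.1 from hg.symm,
        pow_orderOf_eq_one]; simp))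
    rw [← map_pow, e.map_eq_one_iff, ← QuotientGroup.mk_pow, QuotientGroup.eq_one_iff] at h6
    have h7 := (center S).orderOf_dvd_natCard h6
    rw [h1, orderOf_dvd_iff_pow_eq_one, ← pow_mul, ← orderOf_dvd_iff_pow_eq_one, hg] at h7
    omega
  subst h5
  have h6 : (P : Subgroup S).index = 560 := by
    have := (P : Subgroup S).card_mul_index
    rw [h3, h4] at this
    omega
  have h7 := h.index_dvd S P
  obtain ⟨c, h8, h9, h10⟩ := h.count S P
  have h11 := Nat.le_of_dvd (by omega) (h6 ▸ P.card_dvd_index)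
  obtain ⟨n, h12, h13⟩ := h.card_V
  have h14 : c < n := by
    refine (Nat.pow_lt_pow_iff_right (by decide : 1 < 3)).1 (h9 ▸ h13 ▸
      (Nat.card_le_card_of_injective _ Subtype.val_injective).lt_of_ne fun e => ?_)
    have h14 := AddSubgroup.eq_top_of_card_eq
      (fixS (ρ.comp S.subtype) ((P : Subgroup S) : Set S)).toAddSubgroup e
    have h15 : (P : Subgroup S) = ⊥ := eq_bot_iff.2 fun g hg => Subtype.ext (h.inj
      (LinearMap.ext fun v => (h14.ge (AddSubgroup.mem_top v) g hg).trans (by simp)))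
    rw [h15, card_bot] at h4
    omega
  rw [h6, h13] at h7
  have h15 : 12 ≤ n := by
    by_contra h15
    interval_cases n <;> omega
  obtain ⟨d, rfl⟩ := Nat.exists_eq_add_of_lt h14
  have h16 := Nat.pow_le_pow_right (by decide : 0 < 3) h15
  rw [h13] at h10
  rw [add_assoc, pow_add] at h10 h16
  generalize Nat.card (Sylow 3 S) = m at h10 h11
  obtain ⟨q, hq⟩ : ∃ q, 3 ^ c = q + 1 := ⟨3 ^ c - 1, by have := Nat.one_le_pow c 3 (by decide); omega⟩
  have hb := Nat.one_lt_pow d.succ_ne_zero (by decide : 1 < 3)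
  generalize 3 ^ (d + 1) = b at h10 h16 hb
  rw [hq] at h10 h16
  rw [Nat.add_sub_cancel] at h10
  have h17 : m < b ∨ b = m ∨ b < m := by omega
  have h18 : (q + 1) * b = m * q + 1 := by omega
  have h19 : b < m → q ≤ 560 := fun _ => by nlinarith
  rcases h17 with h17 | rfl | h17
  · nlinarith
  · nlinarith
  · nlinarith

end CfsgLib.Gag
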