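import Mathlib
import Cfsg.Prelude.Def_Blocks
import Cfsg.Prelude.Def_CaseTheorems
import Mathlib.GroupTheory.Solvable
import Mathlib.GroupTheory.Complement
import Mathlib.LinearAlgebra.Matrix.SpecialLinearGroup
import Mathlib.GroupTheory.ClassEquation

/-!
# Gagola's theorem (S4841): definitions (plans/GAG.md)
-/

set_option autoImplicit false

namespace CfsgLib.Gag
open Cfsg

/-- The conclusion of S4841 for `H = G / O_p(G)`. -/
def Concl (p : ℕ) (H : Type*) [Group H] : Prop :=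
  (∃ (F : Type) (_ : Field F) (_ : Fintype F), (∃ a : ℕ, Fintype.card F = p ^ a) ∧ 2 < Fintype.card F ∧
      ∃ S : Subgroup H, S.Normal ∧ Nonempty (S ≃* Matrix.SpecialLinearGroup (Fin 2) F) ∧ (∃ k : ℕ, S.index = p ^ k) ∧
        (∃ h : H, S ⊔ Subgroup.zpowers h = ⊤) ∧ Subgroup.centralizer (S : Set H) = (Subgroup.center S).map S.subtype) ∨
   (p = 3 ∧ ∃ S : Subgroup H, S.Normal ∧ S.index = 2 ∧ Nonempty (S ≃* Matrix.SpecialLinearGroup (Fin 2) (ZMod 5)) ∧
        Subgroup.centralizer (S : Set H) = (Subgroup.center S).map S.subtype ∧ ∀ K : Subgroup H, ¬ Subgroup.IsComplement' S K) ∨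
   (p = 3 ∧ Nonempty (H ≃* Matrix.SpecialLinearGroup (Fin 2) (ZMod 13))) ∨
   (p = 11 ∧ Nonempty (H ≃* Matrix.SpecialLinearGroup (Fin 2) (ZMod 5))) ∨
   (p = 29 ∧ Nonempty (H ≃* Matrix.SpecialLinearGroup (Fin 2) (ZMod 5) × Multiplicative (ZMod 7))) ∨
   (p = 59 ∧ Nonempty (H ≃* Matrix.SpecialLinearGroup (Fin 2) (ZMod 5) × Multiplicative (ZMod 29)))

/-- `H` acts faithfully on `V ≠ 0`, transitively on the nonzero vectors, with `p`-groups as stabilisers. -/
structure Tr (p : ℕ) {H V : Type*} [Group H] [AddCommGroup V] [Module (ZMod p) V]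
    (ρ : H →* Module.End (ZMod p) V) : Prop where
  inj : Function.Injective ρ
  nt : ∃ v : V, v ≠ 0
  trans : ∀ v w : V, v ≠ 0 → w ≠ 0 → ∃ h, ρ h v = w
  stab : ∀ (g : H) (v : V), v ≠ 0 → ρ g v = v → ∃ k : ℕ, g ^ p ^ k = 1

/-- The vectors fixed by a set of group elements. -/
def fixS {p : ℕ} {H V : Type*} [Group H] [AddCommGroup V] [Module (ZMod p) V]
    (ρ : H →* Module.End (ZMod p) V) (K : Set H) : Submodule (ZMod p) V where
  carrier := {v | ∀ g ∈ K, ρ g v = v}
  add_mem' := fun {a b} ha hb g hg => by rw [map_add, ha g hg, hb g hg]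
  zero_mem' := fun g _ => map_zero _
  smul_mem' := fun c v hv g hg => by rw [map_smul, hv g hg]

theorem mem_fixS {p : ℕ} {H V : Type*} [Group H] [AddCommGroup V] [Module (ZMod p) V]
    {ρ : H →* Module.End (ZMod p) V} {K : Set H} {v : V} :
    v ∈ fixS ρ K ↔ ∀ g ∈ K, ρ g v = v := Iff.rfl

/-! ### The case `p = 2` -/

/-- Endomorphism ring of an `𝔽₂`-space. -/
abbrev E2 (V : Type*) [AddCommGroup V] [Module (ZMod 2) V] := Module.End (ZMod 2) V

section
variable {G V : Type*} [Group G] [AddCommGroup V] [Module (ZMod 2) V]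

/-- Faithful, `2'`-semiregular, and every involution acts freely. -/
structure Hyp (ρ : G →* E2 V) : Prop where
  inj : Function.Injective ρ
  nt : ∃ v : V, v ≠ 0
  sr : ∀ (g : G) (v : V), v ≠ 0 → ρ g v = v → ∃ k : ℕ, g ^ 2 ^ k = 1
  fr : ∀ t : G, t * t = 1 → t ≠ 1 → ∀ v : V, ρ t v = v → ∃ u : V, ρ t u + u = v

/-- `A_t`: the pointwise stabiliser of the fixed space of `t`. -/
def Aq (ρ : G →* E2 V) (t : G) : Subgroup G where
  carrier := {g | ∀ v : V, ρ t v = v → ρ g v = v}
  mul_mem' := fun {a b} ha hb v hv => by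
    rw [map_mul, Module.End.mul_apply, hb v hv, ha v hv]
  one_mem' := fun v _ => by rw [map_one, Module.End.one_apply]
  inv_mem' := fun {a} ha v hv => by
    conv_lhs => rw [← ha v hv]
    rw [← Module.End.mul_apply, ← map_mul, inv_mul_cancel, map_one, Module.End.one_apply]

theorem mem_Aq {ρ : G →* E2 V} {t g : G} : g ∈ Aq ρ t ↔ ∀ v : V, ρ t v = v → ρ g v = v := Iff.rfl

/-- The invariant `c(x,y) = (x + y)²` of two elements of order `3`. -/
def cc (ρ : G →* E2 V) (x y : G) : E2 V := (ρ x + ρ y) * (ρ x + ρ y)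

end

/-- "semisimple and invertible": of odd multiplicative order. -/
def SS {R : Type*} [Monoid R] (a : R) : Prop := ∃ k : ℕ, Odd k ∧ a ^ k = 1

/-- The subring generated by one element. -/
abbrev Rg {R : Type*} [Ring R] (a : R) : Subring R := Subring.closure {a}

/-- `2 × 2` matrices over `End W`. -/
abbrev Mx (W : Type*) [AddCommGroup W] [Module (ZMod 2) W] := Matrix (Fin 2) (Fin 2) (E2 W)

section
variable {R : Type*} [Ring R]
def xM : Matrix (Fin 2) (Fin 2) R := !![0, 1; 1, 1]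
def wM : Matrix (Fin 2) (Fin 2) R := !![0, 1; 1, 0]
def uM (a : R) : Matrix (Fin 2) (Fin 2) R := !![1, a; 0, 1]
def dM (a b : R) : Matrix (Fin 2) (Fin 2) R := !![a, 0; 0, b]
/-- `1 + η x`. -/
def pM (η : R) : Matrix (Fin 2) (Fin 2) R := !![1, η; η, 1 + η]
end

section
variable {G W : Type*} [Group G] [AddCommGroup W] [Module (ZMod 2) W]

/-- A matrix of endomorphisms as an endomorphism of `W × W`. -/
def toE : Mx W ≃+* E2 (Fin 2 → W) := (endVecRingEquivMatrixEnd (Fin 2) (ZMod 2) W).symm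

theorem toE_apply (M : Mx W) (v : Fin 2 → W) (i : Fin 2) :
    toE M v i = M i 0 (v 0) + M i 1 (v 1) := by
  change ∑ j, M i j (v j) = _
  rw [Fin.sum_univ_two]

/-- The representation on `W × W` given by a matrix representation. -/
def rep (φ : G →* Mx W) : G →* E2 (Fin 2 → W) := (toE (W := W)).toMonoidHom.comp φ

theorem rep_apply (φ : G →* Mx W) (g : G) : rep φ g = toE (φ g) := rfl

/-- A frame: `x` and the involution `t` inverting it have their standard matrices. -/
structure Fr (φ : G →* Mx W) (x t : G) : Prop where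
  hyp : Hyp (rep φ)
  hx : φ x = xM
  ht : φ t = uM 1

/-- The spread set `𝒜` of `A_t`. -/
def InA (φ : G →* Mx W) (α : E2 W) : Prop := ∃ g : G, φ g = uM α

/-- `𝒜` contains a semisimple element outside `𝔽₂`. -/
def Good (φ : G →* Mx W) : Prop := ∃ β, InA φ β ∧ β ≠ 1 ∧ SS β

end

end CfsgLib.Gag
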