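import Cfsg.Agent.Lib.Gag.SSP
import Cfsg.Agent.Lib.Gag.WC1
import Cfsg.Agent.Lib.Gag.WC2
import Cfsg.Agent.Lib.QT1.CycC
import Cfsg.Agent.Lib.CIT.AppModel
import Cfsg.Agent.Lib.SL2.PSL
import Cfsg.Agent.Lib.Core.Cores
import Cfsg.Agent.S2901
import Cfsg.Agent.S0252

/-!
# Gagola's theorem: semiregular simple groups of order divisible by three (plans/GAG.md, package FIN)
-/

set_option autoImplicit false
set_option linter.unusedSectionVars false
set_option linter.unusedVariables false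

namespace CfsgLib.Gag
open Cfsg Subgroup

variable {G V : Type*} [Group G] [Finite G] [AddCommGroup V] [Module (ZMod 2) V] [Finite V]
  {ρ : G →* E2 V}

theorem Hyp.not_nc (h : Hyp ρ) : ¬ QT1.Cyc.NC G := fun ⟨p, hp, h2, h3⟩ => h3 fun A hA h4 => by
  have := Fact.mk hp
  obtain ⟨k, hk⟩ := (SylTools.isPGroup_of_pow_eq_one h4).exists_card_eq
  have := h.cyc A (SylTools.isMulCommutative_iff_forall.1 hA) (hk ▸ (hp.odd_of_ne_two h2).pow)
  rw [← IsCyclic.exponent_eq_card, pow_one]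
  exact Nat.le_of_dvd hp.pos (Monoid.exponent_dvd_of_forall_pow_eq_one fun a => Subtype.ext (h4 a a.2))

open QT1.Cyc in
theorem nc_alt6 {n : ℕ} (hn : 6 ≤ n) : NC (alternatingGroup (Fin n)) := by
  have s : ∀ i j k : Fin n, i ≠ j → i ≠ k → j ≠ k → S3 (Equiv.swap i j) (Equiv.swap j k) := fun i j k h1 h2 h3 =>
    ⟨Equiv.swap_mul_self _ _, Equiv.swap_mul_self _ _, by
      rw [Equiv.swap_comm i j, Equiv.swap_comm j k, Equiv.swap_mul_swap_mul_swap h3.symm h2.symm,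
        Equiv.swap_comm k j, Equiv.swap_comm j i, Equiv.swap_mul_swap_mul_swap h1 h2, Equiv.swap_comm],
      fun e => by simpa [Equiv.swap_apply_def, h1, h2, h1.symm] using congrArg (· i) e⟩
  have m : ∀ i j k : Fin n, i ≠ j → j ≠ k → Equiv.swap i j * Equiv.swap j k ∈ alternatingGroup (Fin n) :=
    fun i j k h1 h2 => by simp [h1, h2]
  let e : Fin 6 → Fin n := Fin.castLE hn
  have he : ∀ i j, i ≠ j → e i ≠ e j := fun i j h => (Fin.castLE_injective hn).ne h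
  have c : ∀ i j k l, [i, j, k, l].Nodup → Commute (Equiv.swap (e i) (e j)) (Equiv.swap (e k) (e l)) := fun i j k l h =>
    (Equiv.Perm.disjoint_swap_swap (List.Nodup.map (Fin.castLE_injective hn) h)).commute
  exact (s (e 0) (e 1) (e 2) (he _ _ (by decide)) (he _ _ (by decide)) (he _ _ (by decide))).nc
    (s (e 3) (e 4) (e 5) (he _ _ (by decide)) (he _ _ (by decide)) (he _ _ (by decide)))
    ⟨c _ _ _ _ (by decide), c _ _ _ _ (by decide), c _ _ _ _ (by decide), c _ _ _ _ (by decide)⟩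
    (m _ _ _ (he _ _ (by decide)) (he _ _ (by decide))) (m _ _ _ (he _ _ (by decide)) (he _ _ (by decide)))

theorem Hyp.mem_norm (h : Hyp ρ) {t g : G} (ht : t * t = 1) (ht1 : t ≠ 1) :
    g ∈ normalizer (Aq ρ t : Set G) ↔ Aq ρ (g * t * g⁻¹) = Aq ρ t :=
  ⟨fun hg => h.Aq_eq ht ht1 ((mem_normalizer_iff.1 hg t).1 (self_mem_Aq t)) (by simpa using ht1),
    fun e => mem_normalizer_iff.2 fun a => by rw [← Aq_conj g, e]⟩

universe v in
theorem Hyp.exists_good {V : Type v} [AddCommGroup V] [Module (ZMod 2) V] [Finite V] {ρ : G →* E2 V}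
    (h : Hyp ρ) {x : G} (hx : orderOf x = 3) (h2 : pCore 2 G = ⊥)
    (hn : ¬ (zpowers x).Normal) : ∃ (W : Type v) (_ : AddCommGroup W) (_ : Module (ZMod 2) W) (_ : Finite W)
      (φ : G →* Mx W) (t : G), Fr φ x t ∧ Good φ := by
  obtain ⟨g, c0, c1⟩ := h.exists_pair hx h2 hn
  have hy : orderOf (g * x * g⁻¹) = 3 := (orderOf_injective (MulAut.conj g).toMonoidHom
    (MulAut.conj g).injective x).trans hx
  obtain ⟨τ, r, h3, h4, -, h5, h6, h7, h8⟩ := h.twoGen hx hy c0 c1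
  obtain ⟨k, hk, h9⟩ := h.ss_cc hx hy c0 c1
  obtain ⟨e1, e2⟩ := h.cc_comm hx hy
  generalize cc ρ x (g * x * g⁻¹) = c at *
  obtain ⟨W, _, _, _, Φ, hF, -⟩ := h.exists_fr hx h6 h7
  have e3 : ρ τ * c = c * ρ τ := h4.mul_left_cancel (by
    rw [← mul_assoc, ← mul_assoc, ← comm_Rg rfl h3, mul_assoc c, h5, add_mul, add_mul, mul_add, mul_add, e1, e2])
  obtain ⟨a, ha⟩ := scalar_of_comm (M := Φ c) (by rw [← hF.hx]; exact (map_mul Φ _ _).symm.trans ((congrArg Φ e1).trans (map_mul Φ _ _)))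
    (by rw [← hF.ht]; exact (map_mul Φ _ _).symm.trans ((congrArg Φ e3).trans (map_mul Φ _ _)))
  obtain ⟨u, hu⟩ := h8 c (self_mem_Rg c)
  refine ⟨W, _, _, ‹_›, _, τ, hF, a, ⟨u, ?_⟩, fun e => c1 (Φ.injective ?_), k, hk, ?_⟩
  · have : Φ (ρ τ) = uM 1 := hF.ht
    change Φ (ρ u) = _
    rw [hu, map_add, map_mul, map_add, map_one, ha, this, Matrix.one_fin_two]
    simp [uM, dM, two_eq]
  · rw [ha, e, dM_one, map_one]
  · have : ∀ n : ℕ, dM a a ^ n = dM (a ^ n) (a ^ n) := fun n => by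
      induction n with
      | zero => simp [dM_one]
      | succ n ih => rw [pow_succ, ih, dM_mul, pow_succ]
    have h10 := congrArg Φ h9
    rw [map_pow, ha, this, map_one] at h10
    simpa [dM] using congrFun (congrFun h10 0) 0

section
variable {W : Type*} [AddCommGroup W] [Module (ZMod 2) W] [Finite W] {φ : G →* Mx W} {x t : G}

theorem Fr.conj_A (hF : Fr φ x t) (hg : Good φ) {a : G} (ha : a ∈ Aq (rep φ) t) (h1 : a ≠ 1) :
    ∃ h ∈ normalizer (Aq (rep φ) t : Set G), h * t * h⁻¹ = a := by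
  obtain ⟨α, hα⟩ := hF.memA.1 ha
  have hs := hF.ss hg α ⟨a, hα⟩ fun e => h1 (hF.inj (by rw [hα, e, uM_zero, map_one]))
  obtain ⟨μ, h2, h3⟩ := hs.sqrt two_eq (self_mem_Rg α)
  obtain ⟨ν, -, h4, h5, -⟩ := (hs.of_unit two_eq h2 (isUnit_mul_self_iff.1 (h3 ▸ hs.isUnit))).inv
  obtain ⟨h, h6⟩ := (hF.torA ⟨a, hα⟩ hs).2 μ h2 ν h4 h5
  have h7 : h * t * h⁻¹ = a := mul_inv_eq_of_eq_mul (hF.inj (by
    rw [map_mul, map_mul, h6, hF.ht, hα, ← h3]
    ext1 i j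
    fin_cases i <;> fin_cases j <;> simp [uM, dM, Matrix.mul_apply, Fin.sum_univ_two, mul_assoc, h4]))
  exact ⟨h, (hF.hyp.mem_norm hF.tt hF.t_ne).2 (h7 ▸ hF.hyp.Aq_eq hF.tt hF.t_ne ha h1), h7⟩

theorem Fr.mem_norm_of (hF : Fr φ x t) (hg : Good φ) {Q : Subgroup G} (hQ : IsPGroup 2 Q) (ht : t ∈ Q) {a g : G}
    (ha : a ∈ Aq (rep φ) t) (h1 : a ≠ 1) (h2 : g * a * g⁻¹ ∈ Q) : g ∈ normalizer (Aq (rep φ) t : Set G) := by
  obtain ⟨h, h3, rfl⟩ := hF.conj_A hg ha h1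
  obtain ⟨v0, hv0⟩ := hF.hyp.nt
  obtain ⟨v, -, hv, h4⟩ := exists_fix (ρ := rep φ) hQ (U := ⊤) (fun e => hv0 (by
    simpa using (e ▸ Submodule.mem_top : v0 ∈ (⊥ : Submodule (ZMod 2) (Fin 2 → W))))) fun _ _ _ _ => trivial
  refine (mul_mem_cancel_right h3).1 ((hF.hyp.mem_norm hF.tt hF.t_ne).2 (hF.hyp.wc hF.tt hF.t_ne (fun k hk => ?_) _
    hv (h4 t ht) (h4 _ (by simpa [mul_assoc] using h2))))
  obtain ⟨β, b1, b2, b3⟩ := id hg
  by_cases h5 : ∀ α, InA φ α → α = 0 ∨ α = 1 ∨ α = β ∨ α = β + 1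
  · exact hF.wc_small b1 b2 b3 h5 k hk
  · push Not at h5
    obtain ⟨α, a1, a2, a3, a4, a5⟩ := h5
    have := nontrivial_of_ne _ _ hF.one_ne
    exact hF.wc_big (hF.ss hg) b1 a1 b3.isUnit.ne_zero b2 a2 a3 (fun e => a4 (eq_of_add two_eq e).symm)
      (fun e => a5 (by rw [← e, ← add_assoc, two_eq, zero_add])) k hk

end

theorem Hyp.t3 [IsSimpleGroup G] (hna : ¬ IsMulCommutative G) (h : Hyp ρ) {x : G}
    (hx : orderOf x = 3) :
    ∃ (F : Type) (_ : Field F) (_ : Fintype F) (a : ℕ), 2 ≤ a ∧ Fintype.card F = 2 ^ a ∧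
      Nonempty (G ≃* Matrix.SpecialLinearGroup (Fin 2) F) := by
  have top : ∀ K : Subgroup G, K.Normal → Group.IsSolvable K → K = ⊥ := fun K h1 h2 =>
    (h1.eq_bot_or_eq_top).resolve_right fun e => hna ⟨⟨IsSimpleGroup.comm_iff_isSolvable.2
      (Group.isSolvable_of_surjective (f := K.subtype) fun g => ⟨⟨g, e ▸ mem_top g⟩, rfl⟩)⟩⟩
  obtain ⟨W, _, _, _, φ, t, hF, hg⟩ := h.exists_good hx
    (top _ inferInstance (have := (Core.isPGroup_pCore 2 G).isNilpotent; inferInstance)) fun e => by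
      rw [zpowers_eq_bot.1 (top _ e inferInstance), orderOf_one] at hx
      omega
  have hA : IsPGroup 2 (Aq (rep φ) t) := fun a => ⟨1, Subtype.ext (by
    simpa [sq] using hF.hyp.Aq_sq hF.tt hF.t_ne a.2)⟩
  have hA1 : Aq (rep φ) t ≠ ⊥ := fun e => hF.t_ne (mem_bot.1 (e ▸ self_mem_Aq t))
  obtain ⟨T, hT⟩ := hA.exists_le_sylow
  have h0 := hT (self_mem_Aq t)
  obtain ⟨r, h1, h2, h3⟩ := Tech.exists_mem_center_of_normalized T.2 hT (fun g k => hF.mem_norm_of hg T.2 h0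
    (self_mem_Aq t) hF.t_ne (mul_mem (mul_mem k h0) (inv_mem k))) hA1
  have h4 : r ≠ 1 := by rintro rfl; simp at h2
  have h2' : ∀ g, IsPGroup 2 (zpowers (g * r * g⁻¹)) := fun g => .of_card (n := 1) (by
    rw [Nat.card_zpowers, pow_one, ← h2]
    exact orderOf_injective (MulAut.conj g).toMonoidHom (MulAut.conj g).injective r)
  have psl : ∀ (F : Type) [Field F] [Fintype F] (a : ℕ), Fintype.card F = 2 ^ a →
      (G ≃* Matrix.ProjectiveSpecialLinearGroup (Fin 2) F) → Nonempty (G ≃* Matrix.SpecialLinearGroup (Fin 2) F) :=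
    fun F _ _ a ha e => ⟨e.trans (SL2.pmEquiv (eq_zero_of_pow_eq_zero (n := a) (by
      simpa [ha] using FiniteField.cast_card_eq_zero F))).symm⟩
  rcases Cfsg.Agent.S2901.result hna (normalizer (Aq (rep φ) t : Set G)) (fun e => hA1 (top _
    (normalizer_eq_top_iff.1 e) (have := hA.isNilpotent; inferInstance))) r (le_normalizer h1) ⟨h2, T, hT h1, h3⟩
    (fun g k => hF.mem_norm_of hg hA (self_mem_Aq t) h1 h4 (by
      rwa [← mem_centralizer_iff.1 k r rfl, mul_inv_cancel_right]))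
    (fun g k => ⟨g, hF.mem_norm_of hg (hA.to_sup_of_normal_left' (h2' g) (zpowers_le.2 k))
      (mem_sup_left (self_mem_Aq t)) h1 h4 (mem_sup_right (mem_zpowers _)), rfl⟩) with
    ⟨⟨F, _, _, a, h5, h6, ⟨e⟩⟩ | ⟨F, _, _, a, h5, h6, ⟨e⟩⟩ | h5, -⟩ | ⟨n, h5, ⟨e⟩, -⟩
  · exact ⟨F, _, _, a, h5, h6, psl F a h6 e⟩
  · have : CharP F 2 := charP_of_card_eq_prime_pow (p := 2) (f := a * 2) (by rw [h6, pow_mul])
    exact (h.not_nc ((QT1.Cyc.nc_psu h6 le_rfl).equiv e)).elim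
  · exact (CIT.App.sz_not_three h5 (hx ▸ orderOf_dvd_natCard x)).elim
  · rcases h5.eq_or_lt with rfl | h6
    · have := Fintype.ofFinite (GaloisField 2 2)
      have h7 : Fintype.card (GaloisField 2 2) = 2 ^ 2 := by rw [← Nat.card_eq_fintype_card, GaloisField.card 2 2 two_ne_zero]
      obtain ⟨f⟩ := Cfsg.Agent.S0252.result h7
      exact ⟨_, _, _, 2, le_rfl, h7, psl _ 2 h7 (e.trans f.symm)⟩
    · exact (h.not_nc ((nc_alt6 h6).equiv e)).elim

end CfsgLib.Gag
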