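import Cfsg.Agent.Lib.Gag.Rng
import Cfsg.Agent.Lib.RealCl.Fld
import Cfsg.Agent.Lib.FrobCompl.Basic
import Cfsg.Agent.Lib.Frob.Complement
import Cfsg.Agent.Lib.Transfer.Residual
import Cfsg.Agent.Lib.Core.Cores

/-!
# Gagola's theorem: semiregularity and counting (plans/GAG.md, package RED1)
-/

set_option autoImplicit false
set_option linter.unusedSectionVars false
set_option linter.unusedVariables false

namespace CfsgLib.Gag
open Cfsg Subgroup

universe u
variable {p : ℕ} [hp : Fact p.Prime] {H : Type u} [Group H] [Finite H] {V : Type*} [AddCommGroup V]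
  [Module (ZMod p) V] [Finite V] {ρ : H →* Module.End (ZMod p) V}

namespace Red1

variable {K : Type*} [Group K] (σ : K →* Module.End (ZMod p) V)

/-- The stabiliser of a vector. -/
def St (v : V) : Subgroup K := letI := MulAction.compHom V σ; MulAction.stabilizer K v

variable {σ}

theorem mem_St {v : V} {g : K} : g ∈ St σ v ↔ σ g v = v := Iff.rfl

theorem app_mul (g h : K) (v : V) : σ (g * h) v = σ g (σ h v) := by rw [map_mul]; rfl

theorem inv_app (g : K) (v : V) : σ g⁻¹ (σ g v) = v := by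
  rw [← app_mul, inv_mul_cancel, map_one]; rfl

theorem app_inv (g : K) (v : V) : σ g (σ g⁻¹ v) = v := by
  rw [← app_mul, mul_inv_cancel, map_one]; rfl

theorem app_ne (g : K) {v : V} (hv : v ≠ 0) : σ g v ≠ 0 := fun e =>
  hv (by rw [← inv_app (σ := σ) g v, e, map_zero])

theorem card_ne (U : Submodule (ZMod p) V) :
    Nat.card {v : V // v ∈ U ∧ v ≠ 0} = Nat.card U - 1 := by
  classical
  have := Fintype.ofFinite U
  rw [Nat.card_congr (Equiv.subtypeSubtypeEquivSubtypeInter (· ∈ U) (· ≠ 0)).symm,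
    Nat.card_eq_fintype_card, Nat.card_eq_fintype_card, ← Fintype.card_subtype_eq (0 : U),
    ← Fintype.card_subtype_compl]
  exact Fintype.card_congr (Equiv.subtypeEquivRight fun x => by simp)

theorem card_ne_top : Nat.card {v : V // v ≠ 0} = Nat.card V - 1 := by
  classical
  have := Fintype.ofFinite V
  rw [Nat.card_eq_fintype_card, Nat.card_eq_fintype_card, Fintype.card_subtype_compl,
    Fintype.card_subtype_eq]

theorem dvd_of_St (U : Submodule (ZMod p) V) (hU : ∀ a, ∀ u ∈ U, σ a u ∈ U) {m : ℕ}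
    (hm : ∀ u ∈ U, u ≠ 0 → m ∣ (St σ u).index) : m ∣ Nat.card U - 1 := by
  let _ := MulAction.compHom V σ
  let X : SubMulAction K V := ⟨{v | v ∈ U ∧ v ≠ 0}, fun a v hv => ⟨hU a v hv.1, app_ne a hv.2⟩⟩
  have := Fintype.ofFinite (MulAction.orbitRel.Quotient K X)
  rw [← card_ne, show Nat.card {v : V // v ∈ U ∧ v ≠ 0} = Nat.card X from rfl,
    Nat.card_congr (MulAction.selfEquivSigmaOrbitsQuotientStabilizer K X)]
  have : ∀ ω : MulAction.orbitRel.Quotient K X, Finite (K ⧸ MulAction.stabilizer K ω.out) :=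
    fun ω => Finite.of_equiv _ (MulAction.orbitEquivQuotientStabilizer K ω.out)
  rw [Nat.card_sigma]
  refine Finset.dvd_sum fun ω _ => ?_
  rw [← index_eq_card, SubMulAction.stabilizer_of_subMul]
  exact hm _ ω.out.2.1 ω.out.2.2

theorem card_sub (U : Submodule (ZMod p) V) : Nat.card U = p ^ Module.finrank (ZMod p) U := by
  rw [Module.natCard_eq_pow_finrank (K := ZMod p), Nat.card_zmod]

end Red1

open Red1

theorem Tr.card_V (h : Tr p ρ) : ∃ n, 1 ≤ n ∧ Nat.card V = p ^ n := by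
  obtain ⟨v, hv⟩ := h.nt
  have : Nontrivial V := ⟨v, 0, hv⟩
  exact ⟨_, Module.finrank_pos (R := ZMod p) (M := V),
    by rw [Module.natCard_eq_pow_finrank (K := ZMod p), Nat.card_zmod]⟩

theorem Tr.not_dvd (h : Tr p ρ) : ¬ p ∣ Nat.card V - 1 := by
  obtain ⟨n, h1, h2⟩ := h.card_V
  intro h3
  have h4 := (Nat.dvd_sub (dvd_pow_self p (by omega : n ≠ 0)) (h2 ▸ h3))
  rw [Nat.sub_sub_self (Nat.one_le_pow _ _ hp.out.pos)] at h4
  exact hp.out.not_dvd_one h4

/-- A `p`-group fixes a nonzero vector. -/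
theorem Tr.exists_fix (h : Tr p ρ) {K : Subgroup H} (hK : IsPGroup p K) :
    ∃ v : V, v ≠ 0 ∧ ∀ g ∈ K, ρ g v = v := by
  let _ := MulAction.compHom V ρ
  obtain ⟨n, h1, h2⟩ := h.card_V
  obtain ⟨v, h3, h4⟩ := hK.exists_fixed_point_of_prime_dvd_card_of_fixed_point V
    (h2 ▸ dvd_pow_self p (by omega)) (a := 0) fun g => map_zero (ρ g)
  exact ⟨v, h4.symm, fun g hg => h3 ⟨g, hg⟩⟩

/-- A normal subgroup fixing a nonzero vector is trivial. -/
theorem Tr.eq_bot (h : Tr p ρ) {K : Subgroup H} [hK : K.Normal] {v : V} (hv : v ≠ 0)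
    (hf : ∀ g ∈ K, ρ g v = v) : K = ⊥ := by
  refine eq_bot_iff.2 fun g hg => h.inj (LinearMap.ext fun w => ?_)
  rw [map_one, Module.End.one_apply]
  by_cases hw : w = 0
  · rw [hw, map_zero]
  obtain ⟨k, rfl⟩ := h.trans v w hv hw
  conv_rhs => rw [← hf _ (hK.conj_mem' g hg k)]
  rw [← app_mul, ← app_mul]
  congr 2
  group

theorem Tr.core_bot (h : Tr p ρ) : pCore p H = ⊥ := by
  obtain ⟨v, h1, h2⟩ := h.exists_fix (Core.isPGroup_pCore p H)
  exact h.eq_bot h1 h2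

theorem Tr.fpf (h : Tr p ρ) {g : H} (hg : ¬ p ∣ orderOf g) (h1 : g ≠ 1) {v : V}
    (hv : ρ g v = v) : v = 0 := by
  by_contra h0
  obtain ⟨k, hk⟩ := h.stab g v h0 hv
  exact h1 (orderOf_eq_one_iff.1 (Nat.eq_one_of_dvd_coprimes
    ((hp.out.coprime_iff_not_dvd.2 hg).symm.pow_right k) dvd_rfl (orderOf_dvd_of_pow_eq_one hk)))

/-- `p'`-subgroups are Frobenius complements. -/
theorem Tr.pqCond (h : Tr p ρ) (A : Subgroup H) (hA : ¬ p ∣ Nat.card A) : Frob.PQCond A := by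
  rcases subsingleton_or_nontrivial A with h1 | h1
  · intro x y hx
    rw [Subsingleton.elim x 1, orderOf_one] at hx
    exact absurd hx Nat.not_prime_one
  obtain ⟨v, hv⟩ := h.nt
  have : Nontrivial V := ⟨v, 0, hv⟩
  let σ : A →* AddMonoid.End V :=
    { toFun := fun a => (ρ a).toAddMonoidHom
      map_one' := AddMonoidHom.ext fun w => by rw [coe_one, map_one]; rfl
      map_mul' := fun a b => AddMonoidHom.ext fun w => app_mul (σ := ρ) a b w }
  obtain ⟨L, _, _, K, h2, ⟨e⟩⟩ := FrobCompl.isFC_of_torsion (isAddTorsion_of_finite (G := V)) σ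
    fun g hg w hw => h.fpf (fun h3 => hA (h3.trans ((orderOf_coe g).dvd.trans
      (orderOf_dvd_natCard g)))) (fun e => hg (Subtype.ext e)) hw
  exact (Frob.pqCond_of_frob h2).of_injective e.toMonoidHom e.injective

theorem Tr.cyc (h : Tr p ρ) (A : Subgroup H) (hc : ∀ a ∈ A, ∀ b ∈ A, a * b = b * a)
    (hA : ¬ p ∣ Nat.card A) : IsCyclic A :=
  (h.pqCond A hA).isCyclic_of_comm ⟨⟨fun a b => Subtype.ext (hc a a.2 b b.2)⟩⟩

/-- `p'`-subgroups of order `q r` are cyclic. -/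
theorem Tr.pq (h : Tr p ρ) {a b : H} (ha : (orderOf a).Prime) (hb : (orderOf b).Prime)
    (ha' : orderOf a ≠ p) (hb' : orderOf b ≠ p) (hn : b * a * b⁻¹ ∈ zpowers a) :
    a * b = b * a := by
  have h1 := Core.card_sup_dvd_of_le_normalizer (zpowers_le.2 (TwoGrp.mem_normalizer_zpowers hn))
  rw [Nat.card_zpowers, Nat.card_zpowers] at h1
  exact (Frob.pqCond_subgroup_iff.1 (h.pqCond _ fun h2 => (hp.out.dvd_mul.1 (h2.trans h1)).elim
    (fun e => hb' ((Nat.prime_dvd_prime_iff_eq hp.out hb).1 e).symm)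
    fun e => ha' ((Nat.prime_dvd_prime_iff_eq hp.out ha).1 e).symm) a
    (mem_sup_right (mem_zpowers a)) b (mem_sup_left (mem_zpowers b)) ha hb hn).1.symm

theorem Tr.dvd (h : Tr p ρ) (A : Subgroup H) (hA : ¬ p ∣ Nat.card A) (U : Submodule (ZMod p) V)
    (hU : ∀ a ∈ A, ∀ u ∈ U, ρ a u ∈ U) : Nat.card A ∣ Nat.card U - 1 := by
  refine dvd_of_St (σ := ρ.comp A.subtype) U (fun a => hU a a.2) fun u _ hu => ?_
  rw [show St (ρ.comp A.subtype) u = ⊥ from eq_bot_iff.2 fun g hg => ?_, index_bot]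
  by_contra h1
  exact hu (h.fpf (fun h3 => hA (h3.trans ((orderOf_coe g).dvd.trans (orderOf_dvd_natCard g))))
    (fun e => h1 (Subtype.ext e)) hg)

theorem Tr.index_St (h : Tr p ρ) {v : V} (hv : v ≠ 0) : (St ρ v).index = Nat.card V - 1 := by
  let _ := MulAction.compHom V ρ
  rw [← card_ne_top, index_eq_card]
  refine Nat.card_congr ((MulAction.orbitEquivQuotientStabilizer H v).symm.trans
    (Equiv.subtypeEquivRight fun w => ⟨?_, fun hw => h.trans v w hv hw⟩))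
  rintro ⟨g, rfl⟩
  exact app_ne g hv

theorem Tr.pg_St (h : Tr p ρ) {v : V} (hv : v ≠ 0) : IsPGroup p (St ρ v) := fun g =>
  (h.stab g v hv g.2).imp fun _ e => Subtype.ext e

theorem Tr.card (h : Tr p ρ) : ∃ k, Nat.card H = (Nat.card V - 1) * p ^ k := by
  obtain ⟨v, hv⟩ := h.nt
  obtain ⟨k, hk⟩ := (h.pg_St hv).exists_card_eq
  exact ⟨k, by rw [← h.index_St hv, ← hk, index_mul_card]⟩

theorem Tr.sylow (h : Tr p ρ) (S : Subgroup H) [S.Normal] {v : V} (hv : v ≠ 0) :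
    ∃ P : Sylow p S, ∀ g : S, ρ g v = v ↔ g ∈ (P : Subgroup S) := by
  obtain ⟨P, hP⟩ := Transfer.exists_sylow_subgroupOf_normal
    ((h.pg_St hv).toSylow (h.index_St hv ▸ h.not_dvd)) S
  exact ⟨P, fun g => by rw [hP]; rfl⟩

theorem Tr.index_dvd (h : Tr p ρ) (S : Subgroup H) [S.Normal] (P : Sylow p S) :
    (P : Subgroup S).index ∣ Nat.card V - 1 := by
  rw [← Nat.card_congr (Submodule.topEquiv (R := ZMod p) (M := V)).toEquiv]
  refine dvd_of_St (σ := ρ.comp S.subtype) ⊤ (fun _ _ _ => trivial) fun u _ hu => ?_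
  obtain ⟨Q, hQ⟩ := h.sylow S hu
  rw [show St (ρ.comp S.subtype) u = Q from Subgroup.ext hQ]
  refine (Nat.eq_of_mul_eq_mul_right (Nat.card_pos (α := P)) ?_).dvd
  rw [index_mul_card, Nat.card_congr (P.equiv Q).toEquiv, index_mul_card]

theorem Tr.count (h : Tr p ρ) (S : Subgroup H) [S.Normal] (P : Sylow p S) :
    ∃ c, 1 ≤ c ∧ Nat.card (fixS (ρ.comp S.subtype) ((P : Subgroup S) : Set S)) = p ^ c ∧
      Nat.card V - 1 = Nat.card (Sylow p S) * (p ^ c - 1) := by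
  set σ := ρ.comp S.subtype
  have key : ∀ Q : Sylow p S, Nat.card (fixS σ ((Q : Subgroup S) : Set S)) =
      Nat.card (fixS σ ((P : Subgroup S) : Set S)) := fun Q => by
    obtain ⟨g, rfl⟩ := MulAction.exists_smul_eq S P Q
    refine Nat.card_congr ⟨fun v => ⟨σ g⁻¹ v, fun a ha => ?_⟩, fun v => ⟨σ g v, fun a ha => ?_⟩,
      fun v => Subtype.ext (app_inv g _), fun v => Subtype.ext (inv_app g _)⟩
    · conv_rhs => rw [← v.2 (g * a * g⁻¹) (smul_mem_pointwise_smul a (MulAut.conj g) _ ha)]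
      rw [← app_mul, ← app_mul]
      congr 2
      group
    · conv_rhs => rw [← v.2 (g⁻¹ * a * g) 
        ((mem_pointwise_smul_iff_inv_smul_mem (a := MulAut.conj g)).1 ha)]
      rw [← app_mul, ← app_mul]
      congr 2
      group
  choose f hf using fun v : {v : V // v ≠ 0} => h.sylow S v.2
  refine ⟨_, ?_, card_sub _, ?_⟩
  · obtain ⟨v, h1, h2⟩ := h.exists_fix (P.isPGroup'.map S.subtype)
    have : Nontrivial (fixS σ ((P : Subgroup S) : Set S)) :=
      ⟨⟨v, fun g hg => h2 g ⟨g, hg, rfl⟩⟩, 0, fun e => h1 (congrArg Subtype.val e)⟩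
    exact Module.finrank_pos
  have := Fintype.ofFinite (Sylow p S)
  rw [← card_sub, ← card_ne_top, Nat.card_congr (Equiv.sigmaFiberEquiv f).symm,
    Nat.card_sigma, Nat.card_eq_fintype_card, ← smul_eq_mul, ← Finset.card_univ, ← Finset.sum_const]
  refine Finset.sum_congr rfl fun Q _ => ?_
  rw [← key Q, ← card_ne]
  exact Nat.card_congr ⟨fun v => ⟨v.1.1, fun g hg => (hf v.1 g).2 (v.2.symm ▸ hg), v.1.2⟩,
    fun v => ⟨⟨v.1, v.2.2⟩, Sylow.ext (Q.is_maximal' (f _).isPGroup' fun g hg =>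
      (hf _ g).1 (v.2.1 g hg))⟩, fun _ => rfl, fun _ => rfl⟩

theorem Tr.neg (h : Tr p ρ) (h2 : p ≠ 2) {t : H} (ht : t * t = 1) (h1 : t ≠ 1) (v : V) :
    ρ t v = -v := by
  refine eq_neg_of_add_eq_zero_left (h.fpf (fun h3 => h2 ?_) h1 ?_)
  · exact (Nat.prime_dvd_prime_iff_eq hp.out Nat.prime_two).1
      (h3.trans (orderOf_dvd_of_pow_eq_one (by rwa [sq])))
  · rw [map_add, ← app_mul, ht, map_one, add_comm]; rfl

theorem Tr.inv (h : Tr p ρ) (h2 : p ≠ 2) :
    ∃ z : H, orderOf z = 2 ∧ z ∈ center H ∧ ∀ t : H, t * t = 1 → t = 1 ∨ t = z := by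
  obtain ⟨n, h3, h4⟩ := h.card_V
  obtain ⟨k, hk⟩ := h.card
  obtain ⟨z, hz⟩ := exists_prime_orderOf_dvd_card' (G := H) 2 (hk ▸ (h4 ▸
    (Nat.Odd.sub_odd (hp.out.odd_of_ne_two h2).pow odd_one).two_dvd).mul_right _)
  have zz : z * z = 1 := by rw [← sq, ← hz, pow_orderOf_eq_one]
  have z1 : z ≠ 1 := fun e => by rw [e, orderOf_one] at hz; omega
  refine ⟨z, hz, mem_center_iff.2 fun g => h.inj (LinearMap.ext fun v => ?_), fun t ht =>
    or_iff_not_imp_left.2 fun t1 => h.inj (LinearMap.ext fun v => ?_)⟩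
  · rw [app_mul, app_mul, h.neg h2 zz z1, h.neg h2 zz z1, map_neg]
  · rw [h.neg h2 zz z1, h.neg h2 ht t1]

end CfsgLib.Gag
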