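import Cfsg.Agent.Lib.Gag.Defs

/-!
# Gagola's theorem: rings of characteristic two, small matrices
-/

set_option autoImplicit false

namespace CfsgLib.Gag

section ring
variable {R : Type*} [Ring R]

theorem two_eq {V : Type*} [AddCommGroup V] [Module (ZMod 2) V] (a : E2 V) : a + a = 0 := by
  rw [← two_smul (ZMod 2) a]; exact (by rw [show (2 : ZMod 2) = 0 from rfl, zero_smul])

theorem vtwo {V : Type*} [AddCommGroup V] [Module (ZMod 2) V] (v : V) : v + v = 0 := by
  rw [← two_smul (ZMod 2) v]; exact (by rw [show (2 : ZMod 2) = 0 from rfl, zero_smul])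

theorem mtwo {W : Type*} [AddCommGroup W] [Module (ZMod 2) W] (a : Mx W) : a + a = 0 := by
  ext1 i j; exact two_eq _

theorem eq_of_add (h2 : ∀ a : R, a + a = 0) {a b : R} (h : a + b = 0) : a = b := by
  calc a = a + (b + b) := by rw [h2, add_zero]
    _ = b := by rw [← add_assoc, h, zero_add]

theorem self_mem_Rg (c : R) : c ∈ Rg c := Subring.subset_closure rfl

theorem comm_Rg {c x a : R} (h : x * c = c * x) (ha : a ∈ Rg c) : x * a = a * x := by
  have : Rg c ≤ Subring.centralizer {x} := by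
    rw [Subring.closure_le]
    rintro _ rfl
    simp only [SetLike.mem_coe, Subring.mem_centralizer_iff, Set.mem_singleton_iff, forall_eq]
    exact h
  have := this ha
  rw [Subring.mem_centralizer_iff] at this
  exact this x rfl

theorem Rg_comm {c a b : R} (ha : a ∈ Rg c) (hb : b ∈ Rg c) : a * b = b * a :=
  comm_Rg (comm_Rg rfl ha).symm hb

theorem Rg_le {c a : R} (ha : a ∈ Rg c) : Rg a ≤ Rg c := by
  rw [Subring.closure_le]; rintro _ rfl; exact ha

theorem add_pow_two_pow (h2 : ∀ a : R, a + a = 0) {a b : R} (h : a * b = b * a) (j : ℕ) :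
    (a + b) ^ 2 ^ j = a ^ 2 ^ j + b ^ 2 ^ j := by
  induction j with
  | zero => simp
  | succ j ih =>
    have hc : Commute (a ^ 2 ^ j) (b ^ 2 ^ j) := (show Commute a b from h).pow_pow _ _
    rw [pow_succ 2 j, pow_mul, pow_mul, pow_mul, ih, sq, sq, sq, add_mul, mul_add, mul_add, hc.eq,
      add_assoc, ← add_assoc (b ^ 2 ^ j * a ^ 2 ^ j), h2, zero_add]

theorem SS.isUnit {a : R} (h : SS a) : IsUnit a := by
  obtain ⟨k, hk, h⟩ := h
  exact IsUnit.of_pow_eq_one h hk.pos.ne'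

theorem exists_two_pow {k : ℕ} (hk : Odd k) : ∃ j m : ℕ, 1 ≤ j ∧ 2 ^ j = k * m + 1 := by
  have hc : Nat.Coprime 2 k := (Nat.coprime_two_left).mpr hk
  have h1 := Nat.ModEq.pow_totient hc
  have hp : 0 < Nat.totient k := Nat.totient_pos.mpr hk.pos
  obtain ⟨m, hm⟩ := (Nat.modEq_iff_dvd' (Nat.one_le_two_pow)).mp h1.symm
  exact ⟨_, m, hp, by have := @Nat.one_le_two_pow (Nat.totient k); omega⟩

/-- Frobenius is the identity on `𝔽₂[c]` after finitely many steps. -/
theorem SS.frob (h2 : ∀ a : R, a + a = 0) {c : R} (h : SS c) :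
    ∃ j, 1 ≤ j ∧ ∀ a ∈ Rg c, a ^ 2 ^ j = a := by
  obtain ⟨k, hk, h⟩ := h
  obtain ⟨j, m, hj, hm⟩ := exists_two_pow hk
  refine ⟨j, hj, fun a ha => ?_⟩
  induction ha using Subring.closure_induction with
  | mem x hx => obtain rfl : x = c := hx; rw [hm, pow_succ, pow_mul, h, one_pow, one_mul]
  | zero => exact zero_pow (by positivity)
  | one => exact one_pow _
  | add x y hx hy ihx ihy => rw [add_pow_two_pow h2 (Rg_comm hx hy), ihx, ihy]
  | neg x hx ih => rw [← eq_of_add h2 (add_neg_cancel x)]; exact ih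
  | mul x y hx hy ihx ihy => rw [(show Commute x y from Rg_comm hx hy).mul_pow, ihx, ihy]

theorem SS.eq_zero (h2 : ∀ a : R, a + a = 0) {c a : R} (h : SS c) (ha : a ∈ Rg c)
    (hn : IsNilpotent a) : a = 0 := by
  obtain ⟨j, hj, hf⟩ := h.frob h2
  obtain ⟨n, hn⟩ := hn
  have key : ∀ i : ℕ, a ^ (2 ^ j) ^ i = a := by
    intro i
    induction i with
    | zero => simp
    | succ i ih => rw [pow_succ, pow_mul, ih, hf a ha]
  have h1 : 1 < 2 ^ j := Nat.one_lt_two_pow (by omega)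
  rw [← key n]
  exact pow_eq_zero_of_le (Nat.lt_pow_self h1).le hn

theorem SS.eq_one (h2 : ∀ a : R, a + a = 0) {c a : R} (h : SS c) (ha : a ∈ Rg c)
    (h1 : a * a = 1) : a = 1 := by
  refine eq_of_add h2 (h.eq_zero h2 (add_mem ha (one_mem _)) ⟨2, ?_⟩)
  rw [sq, add_mul, mul_add, mul_add, h1, mul_one, one_mul, one_mul, add_assoc, ← add_assoc a, h2,
    zero_add, h2]

theorem SS.of_unit (h2 : ∀ a : R, a + a = 0) {c a : R} (h : SS c) (ha : a ∈ Rg c)
    (hu : IsUnit a) : SS a := by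
  obtain ⟨j, hj, hf⟩ := h.frob h2
  have h1 : 2 ^ j = (2 ^ j - 1) + 1 := by have := @Nat.one_le_two_pow j; omega
  refine ⟨2 ^ j - 1, Nat.Even.sub_odd Nat.one_le_two_pow ((Nat.even_pow' (by omega)).mpr even_two)
    odd_one, ?_⟩
  have := hf a ha
  rw [h1, pow_succ] at this
  exact hu.mul_right_cancel (by rw [this, one_mul])

/-- The inverse of a semisimple element is a power of it. -/
theorem SS.inv {a : R} (h : SS a) : ∃ b ∈ Rg a, a * b = 1 ∧ b * a = 1 ∧ SS b := by
  obtain ⟨k, hk, h⟩ := h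
  obtain ⟨m, rfl⟩ := hk
  refine ⟨a ^ (2 * m), pow_mem (self_mem_Rg a) _, by rw [← pow_succ', h], by rw [← pow_succ, h],
    2 * m + 1, ⟨m, rfl⟩, ?_⟩
  rw [← pow_mul, mul_comm, pow_mul, h, one_pow]

/-- Square roots in `𝔽₂[c]`. -/
theorem SS.sqrt (h2 : ∀ a : R, a + a = 0) {c a : R} (h : SS c) (ha : a ∈ Rg c) :
    ∃ b ∈ Rg a, b * b = a := by
  obtain ⟨j, hj, hf⟩ := h.frob h2
  refine ⟨a ^ 2 ^ (j - 1), pow_mem (self_mem_Rg a) _, ?_⟩
  rw [← pow_add, ← two_mul, ← pow_succ', Nat.sub_add_cancel hj, hf a ha]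

theorem SS.mul {a b : R} (ha : SS a) (hb : SS b) (h : a * b = b * a) : SS (a * b) := by
  obtain ⟨k, hk, ha⟩ := ha
  obtain ⟨l, hl, hb⟩ := hb
  refine ⟨k * l, hk.mul hl, ?_⟩
  rw [(show Commute a b from h).mul_pow, pow_mul, ha, one_pow, mul_comm k, pow_mul, hb, one_pow,
    one_mul]

theorem SS.pow {a : R} (ha : SS a) (n : ℕ) : SS (a ^ n) := by
  obtain ⟨k, hk, ha⟩ := ha
  exact ⟨k, hk, by rw [← pow_mul, mul_comm, pow_mul, ha, one_pow]⟩

theorem SS.mem_of_sq {M : Type*} [Monoid M] {Γ : Submonoid M} {g : M} (h : SS g)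
    (hg : g * g ∈ Γ) : g ∈ Γ := by
  obtain ⟨k, ⟨m, rfl⟩, h⟩ := h
  have : g = (g * g) ^ (m + 1) := by
    rw [← sq, ← pow_mul, show 2 * (m + 1) = (2 * m + 1) + 1 by ring, pow_succ, h, one_mul]
  rw [this]; exact pow_mem hg _

/-- If `g + g⁻¹ = c` is a unit, a power of `g` of order `≤ 2` is a "scalar". -/
theorem scalar_of_tr (h2 : ∀ a : R, a + a = 0) {g g' c : R} (h1 : g * g' = 1) (h1' : g' * g = 1)
    (hc : g + g' = c) (hu : IsUnit c) {k : ℕ} (hk : g ^ k * g ^ k = 1) : g ^ k ∈ Rg c := by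
  have hg : g * c = c * g := by rw [← hc, mul_add, add_mul, h1, h1']
  have hg' : g' * c = c * g' := by rw [← hc, mul_add, add_mul, h1, h1']
  have e1 : g * g = c * g + 1 := by rw [← hc, add_mul, h1', add_assoc, h2, add_zero]
  have e2 : g' * g' = c * g' + 1 := by
    rw [← hc, add_mul, h1, add_comm 1, add_assoc, h2, add_zero]
  have key : ∀ n : ℕ, ∃ a ∈ Rg c, ∃ b ∈ Rg c, g ^ n = a + b * g ∧ g' ^ n = a + b * g' := by
    intro n
    induction n with
    | zero => exact ⟨1, one_mem _, 0, zero_mem _, by simp, by simp⟩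
    | succ n ih =>
      obtain ⟨a, ha, b, hb, e, e'⟩ := ih
      refine ⟨b, hb, a + b * c, add_mem ha (mul_mem hb (self_mem_Rg c)), ?_, ?_⟩
      · rw [pow_succ, e, add_mul, mul_assoc, e1]; noncomm_ring
      · rw [pow_succ, e', add_mul, mul_assoc, e2]; noncomm_ring
  obtain ⟨a, ha, b, hb, e, e'⟩ := key k
  have hi : g ^ k * g' ^ k = 1 := by
    rw [← (show Commute g g' from h1.trans h1'.symm).mul_pow, h1, one_pow]
  have hi' : g' ^ k * g ^ k = 1 := by
    rw [← (show Commute g' g from h1'.trans h1.symm).mul_pow, h1', one_pow]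
  have heq : g ^ k = g' ^ k := by
    calc g ^ k = (g' ^ k * g ^ k) * g ^ k := by rw [hi', one_mul]
      _ = g' ^ k := by rw [mul_assoc, hk, mul_one]
  have hb0 : b * c = 0 := by
    have : b * g = b * g' := add_left_cancel (e.symm.trans (heq.trans e'))
    rw [← hc, mul_add, this, h2]
  have : b = 0 := hu.mul_right_cancel (by rw [hb0, zero_mul])
  rw [e, this, zero_mul, add_zero]; exact ha

/-- An element of finite order with semisimple invertible trace has odd order. -/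
theorem odd_of_tr (h2 : ∀ a : R, a + a = 0) {g g' c : R} (h1 : g * g' = 1) (h1' : g' * g = 1)
    (hc : g + g' = c) (hs : SS c) {n : ℕ} (hn0 : 0 < n) (hn : g ^ n = 1) : SS g := by
  induction n using Nat.strong_induction_on with
  | _ n ih =>
    rcases Nat.even_or_odd n with ⟨k, rfl⟩ | ho
    · have hk : g ^ k * g ^ k = 1 := by rw [← pow_add, hn]
      exact ih k (by omega) (by omega)
        (hs.eq_one h2 (scalar_of_tr h2 h1 h1' hc hs.isUnit hk) hk)
    · exact ⟨n, ho, hn⟩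

theorem exists_pow_eq_one [Finite R] {g : R} (hu : IsUnit g) : ∃ n, 0 < n ∧ g ^ n = 1 := by
  obtain ⟨u, rfl⟩ := hu
  exact ⟨orderOf u, orderOf_pos u, by rw [← Units.val_pow_eq_pow_val, pow_orderOf_eq_one, Units.val_one]⟩

/-! ### matrices -/

theorem uM_mul (a b : R) : uM a * uM b = uM (a + b) := by
  simp [uM, add_comm]

theorem uM_zero : uM (0 : R) = 1 := by
  rw [uM, Matrix.one_fin_two]

theorem dM_mul (a b c d : R) : dM a b * dM c d = dM (a * c) (b * d) := by
  simp [dM]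

theorem dM_one : dM (1 : R) 1 = 1 := by
  rw [dM, Matrix.one_fin_two]

theorem uM_inj {a b : R} (h : uM a = uM b) : a = b := congrFun (congrFun h 0) 1

theorem dM_uM_dM (a b c d e : R) (h : a * c = 1) (h' : b * d = 1) :
    dM a b * uM e * dM c d = uM (a * e * d) := by
  simp [dM, uM, h, h']

theorem dM_comm {a : R} {M : Matrix (Fin 2) (Fin 2) R} (h : ∀ i j, a * M i j = M i j * a) :
    dM a a * M = M * dM a a := by
  ext i j
  fin_cases i <;> fin_cases j <;> simp [dM, Matrix.mul_apply, Fin.sum_univ_two, h]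

end ring

end CfsgLib.Gag
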